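import Mathlib

/-!
# Quotients of a polynomial ring by monic polynomials in separate variables

For a finite family of polynomials `f i : R[T]`, the quotient
`R[X_i : i ∈ ι] / (f_i(X_i))` is isomorphic to the tensor product of the `AdjoinRoot (f i)`;
when all `f i` are monic it is a free `R`-module of rank `∏ deg f_i`.
-/

set_option autoImplicit false

namespace Groth.Agent.H78.ASFam

open MvPolynomial PiTensorProduct
open scoped TensorProduct

variable {R : Type*} [CommRing R] {ι : Type*} (f : ι → Polynomial R)

/-- The ideal generated by the `f i (X i)`. -/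
noncomputable def sepIdeal : Ideal (MvPolynomial ι R) :=
  Ideal.span (Set.range fun i => Polynomial.aeval (X i : MvPolynomial ι R) (f i))

/-- The quotient ring. -/
abbrev SepQuot : Type _ := MvPolynomial ι R ⧸ sepIdeal f

/-- class of `X i`. -/
noncomputable def u (i : ι) : SepQuot f := Ideal.Quotient.mk (sepIdeal f) (X i)

theorem aeval_u (i : ι) : Polynomial.aeval (u f i) (f i) = 0 := by
  have h : Polynomial.aeval (u f i) (f i) =
      Ideal.Quotient.mk (sepIdeal f) (Polynomial.aeval (X i : MvPolynomial ι R) (f i)) := by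
    have := Polynomial.aeval_algHom_apply (Ideal.Quotient.mkₐ R (sepIdeal f)) (X i : MvPolynomial ι R) (f i)
    simpa [u] using this
  rw [h, Ideal.Quotient.eq_zero_iff_mem]
  exact Ideal.subset_span ⟨i, rfl⟩

variable [Fintype ι] [DecidableEq ι]

/-- forward map to the tensor product -/
noncomputable def toTensor : SepQuot f →ₐ[R] (⨂[R] i, AdjoinRoot (f i)) :=
  Ideal.Quotient.liftₐ (sepIdeal f)
    (aeval fun i => singleAlgHom (R := R) (A := fun i => AdjoinRoot (f i)) i (AdjoinRoot.root (f i)))
    (by
      intro a ha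
      have hle : sepIdeal f ≤ RingHom.ker ((aeval fun i => singleAlgHom (R := R)
          (A := fun i => AdjoinRoot (f i)) i (AdjoinRoot.root (f i))) :
          MvPolynomial ι R →ₐ[R] (⨂[R] i, AdjoinRoot (f i))).toRingHom := by
        rw [sepIdeal, Ideal.span_le]
        rintro _ ⟨i, rfl⟩
        rw [SetLike.mem_coe, RingHom.mem_ker]
        change (aeval _) (Polynomial.aeval (X i : MvPolynomial ι R) (f i)) = 0
        rw [← Polynomial.aeval_algHom_apply, aeval_X, Polynomial.aeval_algHom_apply,
          AdjoinRoot.aeval_eq, AdjoinRoot.mk_self, map_zero]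
      exact hle ha)

@[simp] theorem toTensor_u (i : ι) :
    toTensor f (u f i) = singleAlgHom (R := R) (A := fun i => AdjoinRoot (f i)) i (AdjoinRoot.root (f i)) := by
  have h : toTensor f (u f i) = (aeval fun i => singleAlgHom (R := R)
      (A := fun i => AdjoinRoot (f i)) i (AdjoinRoot.root (f i))) (X i) := rfl
  rw [h, aeval_X]

/-- the component maps -/
noncomputable def comp (i : ι) : AdjoinRoot (f i) →ₐ[R] SepQuot f :=
  AdjoinRoot.liftAlgHom (f i) (Algebra.ofId R (SepQuot f)) (u f i) (by
    have := aeval_u f i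
    rwa [Polynomial.aeval_def] at this)

omit [Fintype ι] [DecidableEq ι] in
@[simp] theorem comp_root (i : ι) : comp f i (AdjoinRoot.root (f i)) = u f i := by
  exact AdjoinRoot.liftAlgHom_root _ _ _ _

/-- backward map -/
noncomputable def ofTensor : (⨂[R] i, AdjoinRoot (f i)) →ₐ[R] SepQuot f :=
  liftAlgHom ((MultilinearMap.mkPiAlgebra R ι (SepQuot f)).compLinearMap
      (fun i => (comp f i).toLinearMap))
    (by simp)
    (by intro x y; simp [Finset.prod_mul_distrib])

theorem ofTensor_single (i : ι) (a : AdjoinRoot (f i)) :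
    ofTensor f (singleAlgHom (R := R) (A := fun i => AdjoinRoot (f i)) i a) = comp f i a := by
  have h : ofTensor f (singleAlgHom (R := R) (A := fun i => AdjoinRoot (f i)) i a) =
      ∏ j, comp f j (MonoidHom.mulSingle (fun i => AdjoinRoot (f i)) i a j) := by
    unfold ofTensor
    rw [singleAlgHom_apply]
    exact (liftAlgHom_apply _ _ _ _).trans (lift.tprod _)
  rw [h, Finset.prod_eq_single i]
  · simp
  · intro j _ hj
    simp [MonoidHom.mulSingle_apply, Pi.mulSingle_eq_of_ne hj]
  · intro h; exact absurd (Finset.mem_univ i) h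

theorem ofTensor_toTensor : (ofTensor f).comp (toTensor f) = AlgHom.id R (SepQuot f) := by
  apply Ideal.Quotient.algHom_ext
  apply MvPolynomial.algHom_ext
  intro i
  change ofTensor f (toTensor f (u f i)) = u f i
  rw [toTensor_u, ofTensor_single, comp_root]

theorem toTensor_ofTensor :
    (toTensor f).comp (ofTensor f) = AlgHom.id R (⨂[R] i, AdjoinRoot (f i)) := by
  apply PiTensorProduct.algHom_ext
  intro i
  apply AdjoinRoot.algHom_ext
  change toTensor f (ofTensor f (singleAlgHom (R := R) (A := fun i => AdjoinRoot (f i)) i _)) = _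
  rw [ofTensor_single, comp_root, toTensor_u]
  rfl

/-- the isomorphism -/
noncomputable def tensorEquiv : SepQuot f ≃ₐ[R] (⨂[R] i, AdjoinRoot (f i)) :=
  AlgEquiv.ofAlgHom (toTensor f) (ofTensor f) (toTensor_ofTensor f) (ofTensor_toTensor f)


/-- the monomial basis -/
noncomputable def basis (hf : ∀ i, (f i).Monic) :
    Module.Basis (Π i, Fin (AdjoinRoot.powerBasis' (hf i)).dim) R (SepQuot f) :=
  (Basis.piTensorProduct (fun i => (AdjoinRoot.powerBasis' (hf i)).basis)).map
    (tensorEquiv f).symm.toLinearEquiv

theorem basis_apply (hf : ∀ i, (f i).Monic) (e : Π i, Fin (AdjoinRoot.powerBasis' (hf i)).dim) :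
    basis f hf e = ∏ i, u f i ^ (e i : ℕ) := by
  unfold basis
  rw [Module.Basis.map_apply, Basis.piTensorProduct_apply]
  change ofTensor f _ = _
  have h : ofTensor f (⨂ₜ[R] i, (AdjoinRoot.powerBasis' (hf i)).basis (e i)) =
      ∏ j, comp f j ((AdjoinRoot.powerBasis' (hf j)).basis (e j)) := by
    unfold ofTensor
    exact (liftAlgHom_apply _ _ _ _).trans (lift.tprod _)
  rw [h]
  refine Finset.prod_congr rfl fun i _ => ?_
  rw [PowerBasis.basis_eq_pow, AdjoinRoot.powerBasis'_gen, map_pow, comp_root]

theorem free_of_monic (hf : ∀ i, (f i).Monic) : Module.Free R (SepQuot f) :=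
  Module.Free.of_basis (basis f hf)

theorem finite_of_monic (hf : ∀ i, (f i).Monic) : Module.Finite R (SepQuot f) :=
  Module.Finite.of_basis (basis f hf)

theorem finrank_of_monic [Nontrivial R] (hf : ∀ i, (f i).Monic) :
    Module.finrank R (SepQuot f) = ∏ i, (f i).natDegree := by
  rw [Module.finrank_eq_card_basis (basis f hf), Fintype.card_pi]
  refine Finset.prod_congr rfl fun i _ => ?_
  rw [Fintype.card_fin, AdjoinRoot.powerBasis'_dim]

end Groth.Agent.H78.ASFam
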