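import Mathlib
import Groth.Agent.H54.Dim

/-!
# Abstract lemmas on "Artin–Schreier-like" finite algebras over a local ring
-/

set_option autoImplicit false

namespace Groth.Agent.H78.ASFam

open IsLocalRing

section Maximal

variable {R A : Type*} [CommRing R] [CommRing A] [Algebra R A] [IsLocalRing R]
  {ι : Type*} (u : ι → A)

omit [IsLocalRing R] in
/-- every element is a scalar plus an element of `(u)`. -/
theorem exists_eq_add_of_adjoin_eq_top (hadj : Algebra.adjoin R (Set.range u) = ⊤) (y : A) :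
    ∃ r : R, y - algebraMap R A r ∈ Ideal.span (Set.range u) := by
  have hy : y ∈ Algebra.adjoin R (Set.range u) := hadj ▸ Algebra.mem_top
  induction hy using Algebra.adjoin_induction with
  | mem z hz =>
    exact ⟨0, by simpa using Ideal.subset_span hz⟩
  | algebraMap r => exact ⟨r, by simp⟩
  | add y z _ _ hy hz =>
    obtain ⟨r, hr⟩ := hy
    obtain ⟨s, hs⟩ := hz
    refine ⟨r + s, ?_⟩
    have : y + z - algebraMap R A (r + s) = (y - algebraMap R A r) + (z - algebraMap R A s) := by
      rw [map_add]; ring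
    rw [this]
    exact Ideal.add_mem _ hr hs
  | mul y z _ _ hy hz =>
    obtain ⟨r, hr⟩ := hy
    obtain ⟨s, hs⟩ := hz
    refine ⟨r * s, ?_⟩
    have : y * z - algebraMap R A (r * s) =
        (y - algebraMap R A r) * z + algebraMap R A r * (z - algebraMap R A s) := by
      rw [map_mul]; ring
    rw [this]
    exact Ideal.add_mem _ (Ideal.mul_mem_right _ _ hr) (Ideal.mul_mem_left _ _ hs)

/-- `(u)` is maximal when `A = R[u]`, `m_R A ⊆ (u)` and `(u) ≠ A`. -/
theorem isMaximal_span_of_adjoin_eq_top (hadj : Algebra.adjoin R (Set.range u) = ⊤)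
    (hm : maximalIdeal R ≤ (Ideal.span (Set.range u)).comap (algebraMap R A))
    (hne : (1 : A) ∉ Ideal.span (Set.range u)) :
    (Ideal.span (Set.range u)).IsMaximal := by
  rw [Ideal.isMaximal_iff]
  refine ⟨hne, fun J y hMJ hy hyJ => ?_⟩
  obtain ⟨r, hr⟩ := exists_eq_add_of_adjoin_eq_top u hadj y
  have hru : IsUnit r := by
    by_contra hnu
    have h1 : r ∈ maximalIdeal R := (mem_maximalIdeal r).2 hnu
    have h2 : algebraMap R A r ∈ Ideal.span (Set.range u) := hm h1
    apply hy
    have : y = (y - algebraMap R A r) + algebraMap R A r := by ring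
    rw [this]
    exact Ideal.add_mem _ hr h2
  have h3 : algebraMap R A r ∈ J := by
    have : algebraMap R A r = y - (y - algebraMap R A r) := by ring
    rw [this]
    exact Ideal.sub_mem _ hyJ (hMJ hr)
  have h4 : IsUnit (algebraMap R A r) := hru.map _
  have := Ideal.eq_top_of_isUnit_mem J h3 h4
  rw [this]; trivial

variable [Algebra.IsIntegral R A] {p : ℕ} (hp : 1 ≤ p)
  (c x : ι → R) (hc : ∀ i, c i ∈ maximalIdeal R) (hx : ∀ i, x i ∈ maximalIdeal R)
  (hu : ∀ i, u i ^ p = algebraMap R A (c i) * u i + algebraMap R A (x i))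

include hc hx hu in
/-- any maximal ideal contains `(u)`. -/
theorem span_le_of_isMaximal (N : Ideal A) [N.IsMaximal] :
    Ideal.span (Set.range u) ≤ N := by
  have hcomap : N.comap (algebraMap R A) = maximalIdeal R :=
    IsLocalRing.eq_maximalIdeal (Ideal.isMaximal_comap_of_isIntegral_of_isMaximal (R := R) N)
  have hmem : ∀ r ∈ maximalIdeal R, algebraMap R A r ∈ N := by
    intro r hr
    have : r ∈ N.comap (algebraMap R A) := hcomap ▸ hr
    exact this
  rw [Ideal.span_le]
  rintro _ ⟨i, rfl⟩
  have h1 : u i ^ p ∈ N := by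
    rw [hu i]
    exact Ideal.add_mem _ (Ideal.mul_mem_right _ _ (hmem _ (hc i))) (hmem _ (hx i))
  exact (Ideal.IsMaximal.isPrime ‹_›).mem_of_pow_mem _ h1

include hc hx hu in
theorem isLocalRing_of_isMaximal_span (hM : (Ideal.span (Set.range u)).IsMaximal) :
    IsLocalRing A := by
  haveI : Nontrivial A := by
    refine ⟨⟨0, 1, fun h => hM.ne_top ?_⟩⟩
    rw [Ideal.eq_top_iff_one, ← h]; exact Ideal.zero_mem _
  refine IsLocalRing.of_unique_max_ideal ⟨Ideal.span (Set.range u), hM, fun N hN => ?_⟩
  haveI := hN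
  exact (hM.eq_of_le hN.ne_top (span_le_of_isMaximal u c x hc hx hu N)).symm

omit [Algebra.IsIntegral R A] [IsLocalRing R] in
theorem maximalIdeal_eq_span [IsLocalRing A] (hM : (Ideal.span (Set.range u)).IsMaximal) :
    maximalIdeal A = Ideal.span (Set.range u) :=
  (IsLocalRing.eq_maximalIdeal hM).symm

end Maximal

section Regular

variable {A : Type*} [CommRing A] [IsLocalRing A] [IsNoetherianRing A] {n : ℕ} (u : Fin n → A)

theorem isRegularLocalRing_of_span (hM : maximalIdeal A = Ideal.span (Set.range u))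
    (hdim : ringKrullDim A = n) : IsRegularLocalRing A := by
  apply IsRegularLocalRing.of_spanFinrank_maximalIdeal_le
  rw [hdim, hM]
  have h1 : (Ideal.span (Set.range u)).spanFinrank ≤ (Set.range u).ncard :=
    Submodule.spanFinrank_span_le_ncard_of_finite (Set.finite_range u)
  have h2 : (Set.range u).ncard ≤ n := by
    have := Set.ncard_image_le (f := u) (Set.finite_univ (α := Fin n))
    simpa [Set.image_univ, Set.ncard_univ] using this
  exact_mod_cast h1.trans h2

end Regular

section Complete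

variable {A : Type*} [CommRing A]

/-- adic completeness passes from `I` to `J` when `I ≤ J` and `J ^ N ≤ I`. -/
theorem isAdicComplete_of_pow_le (I J : Ideal A) (N : ℕ) (hN : 0 < N) (hIJ : I ≤ J)
    (hJI : J ^ N ≤ I) [IsAdicComplete I A] : IsAdicComplete J A := by
  have hpow : ∀ k, J ^ (N * k) ≤ I ^ k := fun k => by
    rw [pow_mul]; exact Ideal.pow_right_mono hJI k
  have hmem : ∀ (k : ℕ) (z w : A), z ≡ w [SMOD (J ^ (N * k) • ⊤ : Submodule A A)] →
      z ≡ w [SMOD (I ^ k • ⊤ : Submodule A A)] := by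
    intro k z w h
    rw [SModEq.sub_mem] at h ⊢
    exact Submodule.smul_mono_left (hpow k) h
  have hmem' : ∀ (k : ℕ) (z w : A), z ≡ w [SMOD (I ^ k • ⊤ : Submodule A A)] →
      z ≡ w [SMOD (J ^ k • ⊤ : Submodule A A)] := by
    intro k z w h
    rw [SModEq.sub_mem] at h ⊢
    exact Submodule.smul_mono_left (Ideal.pow_right_mono hIJ k) h
  have hmono : ∀ (k l : ℕ) (z w : A), k ≤ l → z ≡ w [SMOD (J ^ l • ⊤ : Submodule A A)] →
      z ≡ w [SMOD (J ^ k • ⊤ : Submodule A A)] := by
    intro k l z w hkl h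
    rw [SModEq.sub_mem] at h ⊢
    exact Submodule.smul_mono_left (Ideal.pow_le_pow_right hkl) h
  refine { haus' := ?_, prec' := ?_ }
  · intro z hz
    apply IsHausdorff.haus (inferInstance : IsHausdorff I A)
    intro k
    exact hmem k z 0 (hz (N * k))
  · intro f hf
    have hg : ∀ {k l : ℕ}, k ≤ l → f (N * k) ≡ f (N * l) [SMOD (I ^ k • ⊤ : Submodule A A)] := by
      intro k l hkl
      exact hmem k _ _ (hf (Nat.mul_le_mul_left N hkl))
    obtain ⟨L, hL⟩ := IsPrecomplete.prec (inferInstance : IsPrecomplete I A) hg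
    refine ⟨L, fun k => ?_⟩
    have h1 : f k ≡ f (N * k) [SMOD (J ^ k • ⊤ : Submodule A A)] :=
      hf (Nat.le_mul_of_pos_left k hN)
    exact h1.trans (hmem' k _ _ (hL k))

end Complete

end Groth.Agent.H78.ASFam
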