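import Mathlib
import Groth.Agent.H78.ASFam.Free
import Groth.Agent.H78.ASFam.Local
import Groth.Agent.H89.AdicRetract
import Groth.Agent.Lead.RegularLocal
import Groth.Agent.H54.Dim

/-!
# The Artin–Schreier family `A = R[u] / (u_i^p - c_i u_i - x_i)` over a local ring `R`
-/

set_option autoImplicit false
universe u

namespace Groth.Agent.H78.ASFam

open IsLocalRing

variable {R : Type u} [CommRing R] (p n : ℕ) (c x : Fin n → R)

/-- The Artin–Schreier polynomials. -/
noncomputable def asPoly (i : Fin n) : Polynomial R :=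
  Polynomial.X ^ p - (Polynomial.C (c i) * Polynomial.X + Polynomial.C (x i))

/-- the ideal in the statement equals `sepIdeal`. -/
theorem ideal_eq :
    Ideal.span (Set.range fun i : Fin n =>
      (MvPolynomial.X i : MvPolynomial (Fin n) R) ^ p
        - MvPolynomial.C (c i) * MvPolynomial.X i - MvPolynomial.C (x i)) =
    sepIdeal (asPoly p n c x) := by
  unfold sepIdeal
  congr 2
  funext i
  simp [asPoly, MvPolynomial.algebraMap_eq, sub_sub]

/-- The ring `A`. -/
abbrev AS : Type u := SepQuot (asPoly p n c x)

/-- the generators -/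
noncomputable abbrev uu (i : Fin n) : AS p n c x := u (asPoly p n c x) i

/-- the defining relation -/
theorem u_pow (i : Fin n) :
    uu p n c x i ^ p = algebraMap R (AS p n c x) (c i) * uu p n c x i +
      algebraMap R (AS p n c x) (x i) := by
  have h := aeval_u (asPoly p n c x) i
  simp only [asPoly, map_sub, map_pow, Polynomial.aeval_X, map_add, map_mul, Polynomial.aeval_C] at h
  exact sub_eq_zero.1 h

theorem adjoin_uu : Algebra.adjoin R (Set.range (uu p n c x)) = ⊤ := by
  have h1 : Set.range (uu p n c x) =
      (Ideal.Quotient.mkₐ R (sepIdeal (asPoly p n c x))) '' (Set.range MvPolynomial.X) := by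
    rw [← Set.range_comp]; rfl
  rw [h1, ← AlgHom.map_adjoin, MvPolynomial.adjoin_range_X, Algebra.map_top,
    AlgHom.range_eq_top]
  exact Ideal.Quotient.mkₐ_surjective R _

section Monic

variable [Nontrivial R] (hp : 2 ≤ p)
include hp

theorem asPoly_degree_lt (i : Fin n) :
    (Polynomial.C (c i) * Polynomial.X + Polynomial.C (x i)).degree < (p : WithBot ℕ) := by
  refine lt_of_le_of_lt Polynomial.degree_linear_le ?_
  exact_mod_cast hp

theorem asPoly_monic (i : Fin n) : (asPoly p n c x i).Monic :=
  Polynomial.monic_X_pow_sub (asPoly_degree_lt p n c x hp i)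

theorem asPoly_natDegree (i : Fin n) : (asPoly p n c x i).natDegree = p := by
  have h := asPoly_degree_lt p n c x hp i
  have h2 : (asPoly p n c x i).degree = (p : WithBot ℕ) := by
    unfold asPoly
    rw [Polynomial.degree_sub_eq_left_of_degree_lt (by rwa [Polynomial.degree_X_pow]),
      Polynomial.degree_X_pow]
  exact Polynomial.natDegree_eq_of_degree_eq_some h2

theorem free_AS : Module.Free R (AS p n c x) :=
  free_of_monic _ (asPoly_monic p n c x hp)

theorem finite_AS : Module.Finite R (AS p n c x) :=
  finite_of_monic _ (asPoly_monic p n c x hp)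

theorem finrank_AS : Module.finrank R (AS p n c x) = p ^ n := by
  rw [finrank_of_monic _ (asPoly_monic p n c x hp)]
  simp [asPoly_natDegree p n c x hp]

theorem nontrivial_AS : Nontrivial (AS p n c x) := by
  haveI := free_AS p n c x hp
  apply Module.nontrivial_of_finrank_pos (R := R)
  rw [finrank_AS p n c x hp]
  exact pow_pos (by omega) n

theorem algebraMap_injective_AS : Function.Injective (algebraMap R (AS p n c x)) := by
  haveI := free_AS p n c x hp
  haveI := nontrivial_AS p n c x hp
  exact FaithfulSMul.algebraMap_injective _ _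

end Monic

section LocalRing

variable [IsLocalRing R] (hp : 2 ≤ p) (hc : ∀ i, c i ∈ maximalIdeal R)
  (hxm : maximalIdeal R = Ideal.span (Set.range x))

include hxm in
theorem x_mem (i : Fin n) : x i ∈ maximalIdeal R := by
  rw [hxm]; exact Ideal.subset_span ⟨i, rfl⟩

include hp hxm in
theorem sepIdeal_le_ker :
    sepIdeal (asPoly p n c x) ≤
      RingHom.ker (MvPolynomial.eval₂Hom (residue R) (fun _ : Fin n => (0 : ResidueField R))) := by
  unfold sepIdeal
  rw [Ideal.span_le]
  rintro _ ⟨i, rfl⟩
  rw [SetLike.mem_coe, RingHom.mem_ker]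
  have hx0 : residue R (x i) = 0 := (residue_eq_zero_iff _).2 (x_mem n x hxm i)
  have hp0 : p ≠ 0 := by omega
  simp [asPoly, MvPolynomial.algebraMap_eq, hx0, hp0]

/-- the residue map `A → R/m`. -/
noncomputable def kappa : AS p n c x →+* ResidueField R :=
  Ideal.Quotient.lift _ (MvPolynomial.eval₂Hom (residue R) (fun _ : Fin n => (0 : ResidueField R)))
    (fun _ ha => (RingHom.mem_ker).1 (sepIdeal_le_ker p n c x hp hxm ha))

theorem kappa_uu (i : Fin n) : kappa p n c x hp hxm (uu p n c x i) = 0 := by
  unfold kappa uu u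
  rw [Ideal.Quotient.lift_mk]
  simp

include hp hxm in
theorem one_notMem_span : (1 : AS p n c x) ∉ Ideal.span (Set.range (uu p n c x)) := by
  intro h
  have hle : Ideal.span (Set.range (uu p n c x)) ≤ RingHom.ker (kappa p n c x hp hxm) := by
    rw [Ideal.span_le]
    rintro _ ⟨i, rfl⟩
    exact kappa_uu p n c x hp hxm i
  have := hle h
  rw [RingHom.mem_ker, map_one] at this
  exact one_ne_zero this

include hp hxm in
theorem maximalIdeal_le_comap :
    maximalIdeal R ≤ (Ideal.span (Set.range (uu p n c x))).comap (algebraMap R (AS p n c x)) := by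
  rw [hxm, Ideal.span_le]
  rintro _ ⟨i, rfl⟩
  rw [SetLike.mem_coe, Ideal.mem_comap]
  have h := u_pow p n c x i
  have h2 : algebraMap R (AS p n c x) (x i) =
      uu p n c x i ^ p - algebraMap R (AS p n c x) (c i) * uu p n c x i := by
    rw [h]; ring
  rw [h2]
  have hu : uu p n c x i ∈ Ideal.span (Set.range (uu p n c x)) := Ideal.subset_span ⟨i, rfl⟩
  exact Ideal.sub_mem _ (Ideal.pow_mem_of_mem _ hu p (by omega)) (Ideal.mul_mem_left _ _ hu)

include hp hxm in
theorem isMaximal_span_uu : (Ideal.span (Set.range (uu p n c x))).IsMaximal :=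
  isMaximal_span_of_adjoin_eq_top _ (adjoin_uu p n c x) (maximalIdeal_le_comap p n c x hp hxm)
    (one_notMem_span p n c x hp hxm)

include hp hc hxm in
theorem isLocalRing_AS : IsLocalRing (AS p n c x) := by
  haveI := finite_AS p n c x hp
  exact isLocalRing_of_isMaximal_span (uu p n c x) c x hc (x_mem n x hxm) (u_pow p n c x)
    (isMaximal_span_uu p n c x hp hxm)

include hp hxm in
theorem maximalIdeal_AS [IsLocalRing (AS p n c x)] :
    maximalIdeal (AS p n c x) = Ideal.span (Set.range (uu p n c x)) :=
  maximalIdeal_eq_span (uu p n c x) (isMaximal_span_uu p n c x hp hxm)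

end LocalRing

section Regular

variable [IsLocalRing R] [IsNoetherianRing R] (hp : 2 ≤ p) (hc : ∀ i, c i ∈ maximalIdeal R)
  (hxm : maximalIdeal R = Ideal.span (Set.range x)) (hdim : ringKrullDim R = n)

include hp hdim in
theorem ringKrullDim_AS : ringKrullDim (AS p n c x) = n := by
  haveI := finite_AS p n c x hp
  rw [← hdim]
  exact (Groth.Agent.H54.ringKrullDim_eq_of_isIntegral_of_injective
    (algebraMap_injective_AS p n c x hp)).symm

include hp hc hxm hdim in
theorem isRegularLocalRing_AS : IsRegularLocalRing (AS p n c x) := by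
  haveI := isLocalRing_AS p n c x hp hc hxm
  exact isRegularLocalRing_of_span (uu p n c x) (maximalIdeal_AS p n c x hp hxm)
    (ringKrullDim_AS p n c x hp hdim)

include hp hc hxm hdim in
theorem isDomain_AS : IsDomain (AS p n c x) := by
  haveI := isRegularLocalRing_AS p n c x hp hc hxm hdim
  exact Groth.Agent.Lead.RLR.isDomain _

include hp hxm in
/-- `m_R A ≤ (u)`. -/
theorem map_maximalIdeal_le :
    (maximalIdeal R).map (algebraMap R (AS p n c x)) ≤ Ideal.span (Set.range (uu p n c x)) :=
  Ideal.map_le_iff_le_comap.2 (maximalIdeal_le_comap p n c x hp hxm)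

include hc hxm in
/-- `(u) ≤ rad (m_R A)`. -/
theorem span_le_radical :
    Ideal.span (Set.range (uu p n c x)) ≤
      ((maximalIdeal R).map (algebraMap R (AS p n c x))).radical := by
  rw [Ideal.span_le]
  rintro _ ⟨i, rfl⟩
  refine ⟨p, ?_⟩
  rw [u_pow]
  exact Ideal.add_mem _ (Ideal.mul_mem_right _ _ (Ideal.mem_map_of_mem _ (hc i)))
    (Ideal.mem_map_of_mem _ (x_mem n x hxm i))

include hp hc hxm in
theorem isAdicComplete_AS [IsAdicComplete (maximalIdeal R) R] :
    IsAdicComplete (Ideal.span (Set.range (uu p n c x))) (AS p n c x) := by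
  haveI := finite_AS p n c x hp
  haveI := free_AS p n c x hp
  haveI : IsAdicComplete (maximalIdeal R) (AS p n c x) :=
    Groth.Agent.H89.isAdicComplete_of_finite_projective (maximalIdeal R) (AS p n c x)
  haveI : IsAdicComplete ((maximalIdeal R).map (algebraMap R (AS p n c x))) (AS p n c x) :=
    { toIsHausdorff := IsHausdorff.map_algebraMap_iff.2 inferInstance
      toIsPrecomplete := IsPrecomplete.map_algebraMap_iff.2 inferInstance }
  have hrad : ((maximalIdeal R).map (algebraMap R (AS p n c x))).radical =
      Ideal.span (Set.range (uu p n c x)) := by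
    apply le_antisymm
    · have hM := isMaximal_span_uu p n c x hp hxm
      exact hM.isPrime.radical_le_iff.2 (map_maximalIdeal_le p n c x hp hxm)
    · exact span_le_radical p n c x hc hxm
  obtain ⟨N, hN⟩ := Ideal.exists_radical_pow_le_of_fg
    ((maximalIdeal R).map (algebraMap R (AS p n c x))) (IsNoetherian.noetherian _)
  rw [hrad] at hN
  refine isAdicComplete_of_pow_le _ _ (N + 1) (Nat.succ_pos N)
    (map_maximalIdeal_le p n c x hp hxm) ?_
  exact (Ideal.pow_le_pow_right (Nat.le_succ N)).trans hN

end Regular

end Groth.Agent.H78.ASFam
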