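import Mathlib

/-!
# Automorphisms and invariants of a finite free extension of an integrally closed domain

If `B` is a domain, finite free over the domain `R`, then `Aut_R(B)` is finite of order at most
`rank_R B`; if a finite group `G` of order `rank_R B` acts faithfully on `B` by `R`-algebra
automorphisms and `R` is integrally closed, then `B^G = R`.
-/

set_option autoImplicit false

namespace Groth.Agent.H78.ASFam

attribute [local instance] FractionRing.liftAlgebra

section

variable (R B : Type*) [CommRing R] [CommRing B] [IsDomain R] [IsDomain B] [Algebra R B]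
  [FaithfulSMul R B] [Module.Finite R B] [Module.Free R B]

theorem finrank_fractionRing :
    Module.finrank (FractionRing R) (FractionRing B) = Module.finrank R B :=
  IsFractionRing.finrank_eq R (FractionRing R) B (FractionRing B)

theorem finiteDimensional_fractionRing :
    FiniteDimensional (FractionRing R) (FractionRing B) := by
  apply FiniteDimensional.of_finrank_pos
  rw [finrank_fractionRing]
  exact Module.finrank_pos

theorem finite_algEquiv_and_card_le :
    Finite (B ≃ₐ[R] B) ∧ Nat.card (B ≃ₐ[R] B) ≤ Module.finrank R B := by
  letI : MulSemiringAction (B ≃ₐ[R] B) (FractionRing B) :=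
    IsFractionRing.mulSemiringAction (B ≃ₐ[R] B) B (FractionRing B)
  haveI : FaithfulSMul (B ≃ₐ[R] B) (FractionRing B) :=
    IsFractionRing.faithfulSMul (B ≃ₐ[R] B) B (FractionRing B)
  haveI : SMulCommClass (B ≃ₐ[R] B) (FractionRing R) (FractionRing B) :=
    IsFractionRing.smulCommClass (B ≃ₐ[R] B) R B (FractionRing R) (FractionRing B)
  haveI := finiteDimensional_fractionRing R B
  have hinj : Function.Injective
      (MulSemiringAction.toAlgAut (B ≃ₐ[R] B) (FractionRing R) (FractionRing B)) := by
    intro g h hgh
    apply eq_of_smul_eq_smul (α := FractionRing B)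
    intro x
    exact DFunLike.congr_fun hgh x
  haveI : Finite (B ≃ₐ[R] B) := Finite.of_injective _ hinj
  refine ⟨inferInstance, ?_⟩
  calc Nat.card (B ≃ₐ[R] B) ≤ Nat.card (FractionRing B ≃ₐ[FractionRing R] FractionRing B) :=
        Nat.card_le_card_of_injective _ hinj
    _ ≤ Module.finrank (FractionRing R) (FractionRing B) := by
        rw [Nat.card_eq_fintype_card]
        exact AlgEquiv.card_le
    _ = Module.finrank R B := finrank_fractionRing R B

variable (G : Type*) [Group G] [Finite G] [MulSemiringAction G B] [SMulCommClass G R B]
  [FaithfulSMul G B] [IsIntegrallyClosed R]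

theorem isGaloisGroup_of_card_eq (hcard : Nat.card G = Module.finrank R B) :
    IsGaloisGroup G R B := by
  letI : MulSemiringAction G (FractionRing B) :=
    IsFractionRing.mulSemiringAction G B (FractionRing B)
  haveI : FaithfulSMul G (FractionRing B) := IsFractionRing.faithfulSMul G B (FractionRing B)
  haveI : SMulCommClass G (FractionRing R) (FractionRing B) :=
    IsFractionRing.smulCommClass G R B (FractionRing R) (FractionRing B)
  haveI := finiteDimensional_fractionRing R B
  have hKL : IsGaloisGroup G (FractionRing R) (FractionRing B) := by
    cases nonempty_fintype G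
    refine ⟨inferInstance, inferInstance, ⟨fun x hx => ?_⟩⟩
    obtain ⟨F', hF'⟩ : ∃ F' : IntermediateField (FractionRing R) (FractionRing B),
        F' = FixedPoints.intermediateField G := ⟨_, rfl⟩
    have hmem : x ∈ F' := by rw [hF']; exact hx
    have h1 : Module.finrank F' (FractionRing B) = Nat.card G := by
      rw [Nat.card_eq_fintype_card, hF']
      exact FixedPoints.finrank_eq_card G (FractionRing B)
    haveI : Module.Free (FractionRing R) F' := Module.Free.of_divisionRing _ _
    haveI : Module.Free F' (FractionRing B) := Module.Free.of_divisionRing _ _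
    have h2 := Module.finrank_mul_finrank (FractionRing R) F' (FractionRing B)
    rw [h1, hcard, finrank_fractionRing] at h2
    have hpos : 0 < Module.finrank R B := Module.finrank_pos
    have h3 : Module.finrank (FractionRing R) F' = 1 :=
      Nat.eq_of_mul_eq_mul_right hpos (by rw [h2, one_mul])
    rw [IntermediateField.finrank_eq_one_iff] at h3
    rw [h3] at hmem
    exact IntermediateField.mem_bot.1 hmem
  haveI : Algebra.IsIntegral R B := Algebra.IsIntegral.of_finite R B
  exact IsGaloisGroup.of_isFractionRing G R B (FractionRing R) (FractionRing B)

end

end Groth.Agent.H78.ASFam
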