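import Mathlib
import Groth.Agent.H78.ASFam.Main
import Groth.Agent.H78.ASFam.Galois

/-!
# Automorphisms of the Artin–Schreier family
-/

set_option autoImplicit false
universe u

namespace Groth.Agent.H78.ASFam

variable {R : Type u} [CommRing R] (p n : ℕ) [hp : Fact p.Prime] [CharP R p] (a x : Fin n → R)

/-- the scalar attached to `e i`. -/
noncomputable def cst (e : Fin n → ZMod p) (i : Fin n) : R :=
  ZMod.castHom (dvd_refl p) R (e i) * a i

/-- the shifted generators `u_i + e_i a_i`. -/
noncomputable def shiftVal (e : Fin n → ZMod p) (i : Fin n) : AS p n (fun i => a i ^ (p - 1)) x :=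
  uu p n (fun i => a i ^ (p - 1)) x i +
    algebraMap R (AS p n (fun i => a i ^ (p - 1)) x) (cst p n a e i)

theorem cst_pow (e : Fin n → ZMod p) (i : Fin n) :
    cst p n a e i ^ p = a i ^ (p - 1) * cst p n a e i := by
  unfold cst
  have h1 : (ZMod.castHom (dvd_refl p) R (e i)) ^ p = ZMod.castHom (dvd_refl p) R (e i) := by
    rw [← map_pow, ZMod.pow_card]
  have h2 : a i ^ p = a i ^ (p - 1) * a i := by
    rw [← pow_succ, Nat.sub_add_cancel hp.out.one_le]
  rw [mul_pow, h1, h2]; ring

theorem shiftVal_pow [CharP (AS p n (fun i => a i ^ (p - 1)) x) p] (e : Fin n → ZMod p) (i : Fin n) :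
    shiftVal p n a x e i ^ p =
      algebraMap R (AS p n (fun i => a i ^ (p - 1)) x) (a i ^ (p - 1)) * shiftVal p n a x e i +
        algebraMap R (AS p n (fun i => a i ^ (p - 1)) x) (x i) := by
  unfold shiftVal
  rw [add_pow_char, u_pow, ← map_pow, cst_pow, map_mul]
  ring

theorem aeval_shiftVal [CharP (AS p n (fun i => a i ^ (p - 1)) x) p] (e : Fin n → ZMod p)
    (i : Fin n) :
    Polynomial.aeval (shiftVal p n a x e i) (asPoly p n (fun i => a i ^ (p - 1)) x i) = 0 := by
  simp only [asPoly, map_sub, map_pow, Polynomial.aeval_X, map_add, map_mul, Polynomial.aeval_C]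
  rw [shiftVal_pow]
  simp only [map_pow]
  ring

theorem sepIdeal_le_ker_aeval [CharP (AS p n (fun i => a i ^ (p - 1)) x) p] (e : Fin n → ZMod p) :
    ∀ P ∈ sepIdeal (asPoly p n (fun i => a i ^ (p - 1)) x),
      (MvPolynomial.aeval (shiftVal p n a x e) :
        MvPolynomial (Fin n) R →ₐ[R] AS p n (fun i => a i ^ (p - 1)) x) P = 0 := by
  intro P hP
  have hle : sepIdeal (asPoly p n (fun i => a i ^ (p - 1)) x) ≤
      RingHom.ker (MvPolynomial.aeval (shiftVal p n a x e) :
        MvPolynomial (Fin n) R →ₐ[R] AS p n (fun i => a i ^ (p - 1)) x) := by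
    refine Ideal.span_le.2 ?_
    rintro _ ⟨i, rfl⟩
    rw [SetLike.mem_coe, RingHom.mem_ker]
    change (MvPolynomial.aeval (shiftVal p n a x e))
      (Polynomial.aeval (MvPolynomial.X i) (asPoly p n (fun i => a i ^ (p - 1)) x i)) = 0
    rw [← Polynomial.aeval_algHom_apply, MvPolynomial.aeval_X]
    exact aeval_shiftVal p n a x e i
  exact (RingHom.mem_ker).1 (hle hP)

/-- the endomorphism `u_i ↦ u_i + e_i a_i`. -/
noncomputable def sigma [CharP (AS p n (fun i => a i ^ (p - 1)) x) p] (e : Fin n → ZMod p) :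
    AS p n (fun i => a i ^ (p - 1)) x →ₐ[R] AS p n (fun i => a i ^ (p - 1)) x :=
  Ideal.Quotient.liftₐ _ (MvPolynomial.aeval (shiftVal p n a x e)) (sepIdeal_le_ker_aeval p n a x e)

theorem sigma_uu [CharP (AS p n (fun i => a i ^ (p - 1)) x) p] (e : Fin n → ZMod p) (i : Fin n) :
    sigma p n a x e (uu p n (fun i => a i ^ (p - 1)) x i) = shiftVal p n a x e i := by
  have h : sigma p n a x e (uu p n (fun i => a i ^ (p - 1)) x i) =
      (MvPolynomial.aeval (shiftVal p n a x e) :
        MvPolynomial (Fin n) R →ₐ[R] AS p n (fun i => a i ^ (p - 1)) x) (MvPolynomial.X i) := rfl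
  rw [h, MvPolynomial.aeval_X]

theorem algHom_ext_uu {f g : AS p n (fun i => a i ^ (p - 1)) x →ₐ[R] AS p n (fun i => a i ^ (p - 1)) x}
    (h : ∀ i, f (uu p n (fun i => a i ^ (p - 1)) x i) = g (uu p n (fun i => a i ^ (p - 1)) x i)) :
    f = g := by
  apply Ideal.Quotient.algHom_ext
  apply MvPolynomial.algHom_ext
  intro i
  exact h i

theorem cst_add (e e' : Fin n → ZMod p) (i : Fin n) :
    cst p n a (e + e') i = cst p n a e i + cst p n a e' i := by
  unfold cst
  rw [Pi.add_apply, map_add, add_mul]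

theorem sigma_comp [CharP (AS p n (fun i => a i ^ (p - 1)) x) p] (e e' : Fin n → ZMod p) :
    (sigma p n a x e).comp (sigma p n a x e') = sigma p n a x (e + e') := by
  apply algHom_ext_uu
  intro i
  rw [AlgHom.comp_apply, sigma_uu, sigma_uu]
  unfold shiftVal
  rw [map_add, sigma_uu, AlgHom.commutes, cst_add, map_add]
  unfold shiftVal
  ring

theorem sigma_zero [CharP (AS p n (fun i => a i ^ (p - 1)) x) p] :
    sigma p n a x 0 = AlgHom.id R _ := by
  apply algHom_ext_uu
  intro i
  rw [sigma_uu]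
  unfold shiftVal cst
  simp

/-- the automorphisms. -/
noncomputable def sigmaEquiv [CharP (AS p n (fun i => a i ^ (p - 1)) x) p] (e : Fin n → ZMod p) :
    AS p n (fun i => a i ^ (p - 1)) x ≃ₐ[R] AS p n (fun i => a i ^ (p - 1)) x :=
  AlgEquiv.ofAlgHom (sigma p n a x e) (sigma p n a x (-e))
    (by rw [sigma_comp, add_neg_cancel, sigma_zero])
    (by rw [sigma_comp, neg_add_cancel, sigma_zero])

/-- the group homomorphism. -/
noncomputable def Psi [CharP (AS p n (fun i => a i ^ (p - 1)) x) p] :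
    Multiplicative (Fin n → ZMod p) →* (AS p n (fun i => a i ^ (p - 1)) x ≃ₐ[R]
      AS p n (fun i => a i ^ (p - 1)) x) where
  toFun e := sigmaEquiv p n a x (Multiplicative.toAdd e)
  map_one' := by
    ext b
    change sigma p n a x 0 b = b
    rw [sigma_zero]; rfl
  map_mul' e e' := by
    ext b
    change sigma p n a x (Multiplicative.toAdd e + Multiplicative.toAdd e') b =
      sigma p n a x (Multiplicative.toAdd e) (sigma p n a x (Multiplicative.toAdd e') b)
    rw [← sigma_comp]; rfl

theorem Psi_apply_uu [CharP (AS p n (fun i => a i ^ (p - 1)) x) p]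
    (e : Multiplicative (Fin n → ZMod p)) (i : Fin n) :
    Psi p n a x e (uu p n (fun i => a i ^ (p - 1)) x i) =
      shiftVal p n a x (Multiplicative.toAdd e) i :=
  sigma_uu p n a x _ i

theorem aut_main [IsDomain R] [IsIntegrallyClosed R]
    (hA : IsDomain (AS p n (fun i => a i ^ (p - 1)) x)) (ha0 : ∀ i, a i ≠ 0) :
    Nat.card (AS p n (fun i => a i ^ (p - 1)) x ≃ₐ[R] AS p n (fun i => a i ^ (p - 1)) x) = p ^ n ∧
    (∀ σ τ : AS p n (fun i => a i ^ (p - 1)) x ≃ₐ[R] AS p n (fun i => a i ^ (p - 1)) x,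
      σ * τ = τ * σ) ∧
    (∀ σ : AS p n (fun i => a i ^ (p - 1)) x ≃ₐ[R] AS p n (fun i => a i ^ (p - 1)) x, σ ^ p = 1) ∧
    (∀ b : AS p n (fun i => a i ^ (p - 1)) x,
      (∀ σ : AS p n (fun i => a i ^ (p - 1)) x ≃ₐ[R] AS p n (fun i => a i ^ (p - 1)) x, σ b = b) ↔
        b ∈ Set.range (algebraMap R (AS p n (fun i => a i ^ (p - 1)) x))) := by
  have hp2 : 2 ≤ p := hp.out.two_le
  haveI := free_AS p n (fun i => a i ^ (p - 1)) x hp2
  haveI := finite_AS p n (fun i => a i ^ (p - 1)) x hp2
  have hinj := algebraMap_injective_AS p n (fun i => a i ^ (p - 1)) x hp2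
  haveI : FaithfulSMul R (AS p n (fun i => a i ^ (p - 1)) x) :=
    (faithfulSMul_iff_algebraMap_injective R _).2 hinj
  haveI : CharP (AS p n (fun i => a i ^ (p - 1)) x) p := charP_of_injective_algebraMap hinj p
  -- injectivity of Psi
  have hPsi : Function.Injective (Psi p n a x) := by
    intro e e' hee
    have h1 : ∀ i, Multiplicative.toAdd e i = Multiplicative.toAdd e' i := by
      intro i
      have h2 : shiftVal p n a x (Multiplicative.toAdd e) i =
          shiftVal p n a x (Multiplicative.toAdd e') i := by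
        rw [← Psi_apply_uu, ← Psi_apply_uu, hee]
      unfold shiftVal at h2
      have h3 := hinj (add_left_cancel h2)
      unfold cst at h3
      have h4 := mul_right_cancel₀ (ha0 i) h3
      exact (ZMod.castHom (dvd_refl p) R).injective h4
    exact Multiplicative.toAdd.injective (funext h1)
  -- the action
  letI : MulSemiringAction (Multiplicative (Fin n → ZMod p)) (AS p n (fun i => a i ^ (p - 1)) x) :=
    MulSemiringAction.compHom _ (Psi p n a x)
  have hsmul : ∀ (g : Multiplicative (Fin n → ZMod p)) (b : AS p n (fun i => a i ^ (p - 1)) x),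
      g • b = Psi p n a x g b := fun _ _ => rfl
  haveI : SMulCommClass (Multiplicative (Fin n → ZMod p)) R (AS p n (fun i => a i ^ (p - 1)) x) :=
    ⟨fun g r b => by rw [hsmul, hsmul, map_smul]⟩
  haveI : FaithfulSMul (Multiplicative (Fin n → ZMod p)) (AS p n (fun i => a i ^ (p - 1)) x) :=
    ⟨fun {g g'} h => hPsi (AlgEquiv.ext fun b => by rw [← hsmul, ← hsmul, h b])⟩
  have hcardG : Nat.card (Multiplicative (Fin n → ZMod p)) = p ^ n := by
    rw [Nat.card_congr Multiplicative.toAdd, Nat.card_fun, Nat.card_zmod, Nat.card_fin]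
  have hfr := finrank_AS p n (fun i => a i ^ (p - 1)) x hp2
  have hGal : IsGaloisGroup (Multiplicative (Fin n → ZMod p)) R (AS p n (fun i => a i ^ (p - 1)) x) :=
    isGaloisGroup_of_card_eq R _ _ (hcardG.trans hfr.symm)
  obtain ⟨hfin, hle⟩ := finite_algEquiv_and_card_le R (AS p n (fun i => a i ^ (p - 1)) x)
  rw [hfr] at hle
  have hge : p ^ n ≤ Nat.card (AS p n (fun i => a i ^ (p - 1)) x ≃ₐ[R]
      AS p n (fun i => a i ^ (p - 1)) x) := by
    rw [← hcardG]
    exact Nat.card_le_card_of_injective _ hPsi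
  have hcard := le_antisymm hle hge
  have hbij : Function.Bijective (Psi p n a x) :=
    hPsi.bijective_of_nat_card_le (by rw [hcard, hcardG])
  refine ⟨hcard, ?_, ?_, ?_⟩
  · intro σ τ
    obtain ⟨e, rfl⟩ := hbij.2 σ
    obtain ⟨e', rfl⟩ := hbij.2 τ
    rw [← map_mul, ← map_mul, mul_comm]
  · intro σ
    obtain ⟨e, rfl⟩ := hbij.2 σ
    rw [← map_pow]
    have : e ^ p = 1 := by
      apply Multiplicative.toAdd.injective
      rw [toAdd_pow, toAdd_one]
      funext i
      rw [Pi.smul_apply, Pi.zero_apply, nsmul_eq_mul, CharP.cast_eq_zero, zero_mul]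
    rw [this, map_one]
  · intro b
    constructor
    · intro h
      obtain ⟨r, hr⟩ := hGal.isInvariant.isInvariant b (fun g => by rw [hsmul]; exact h _)
      exact ⟨r, hr⟩
    · rintro ⟨r, rfl⟩ σ
      exact σ.commutes r

end Groth.Agent.H78.ASFam
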